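import Cfsg.Agent.Lib.Helper28.Y555.C28160.ChkDefs

set_option autoImplicit false
set_option linter.unusedVariables false
set_option Elab.async false

namespace Cfsg.Agent.Lib.Helper28.Y555.C28160

open Cfsg.Agent.Lib.Helper28.Y555Sub.P9 (Gen)
open Cfsg.Agent.Lib.Helper28.TC

noncomputable section

theorem factP_blk672 : allRange factP 6 (672 * 2 ^ 6) = true := by decide +kernel
theorem factP_blk673 : allRange factP 6 (673 * 2 ^ 6) = true := by decide +kernel
theorem factP_blk674 : allRange factP 6 (674 * 2 ^ 6) = true := by decide +kernel
theorem factP_blk675 : allRange factP 6 (675 * 2 ^ 6) = true := by decide +kernel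
theorem factP_blk676 : allRange factP 6 (676 * 2 ^ 6) = true := by decide +kernel
theorem factP_blk677 : allRange factP 6 (677 * 2 ^ 6) = true := by decide +kernel
theorem factP_blk678 : allRange factP 6 (678 * 2 ^ 6) = true := by decide +kernel
theorem factP_blk679 : allRange factP 6 (679 * 2 ^ 6) = true := by decide +kernel
theorem factP_blk680 : allRange factP 6 (680 * 2 ^ 6) = true := by decide +kernel
theorem factP_blk681 : allRange factP 6 (681 * 2 ^ 6) = true := by decide +kernel
theorem factP_blk682 : allRange factP 6 (682 * 2 ^ 6) = true := by decide +kernel
theorem factP_blk683 : allRange factP 6 (683 * 2 ^ 6) = true := by decide +kernel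
theorem factP_blk684 : allRange factP 6 (684 * 2 ^ 6) = true := by decide +kernel
theorem factP_blk685 : allRange factP 6 (685 * 2 ^ 6) = true := by decide +kernel
theorem factP_blk686 : allRange factP 6 (686 * 2 ^ 6) = true := by decide +kernel
theorem factP_blk687 : allRange factP 6 (687 * 2 ^ 6) = true := by decide +kernel
theorem factP_blk688 : allRange factP 6 (688 * 2 ^ 6) = true := by decide +kernel
theorem factP_blk689 : allRange factP 6 (689 * 2 ^ 6) = true := by decide +kernel
theorem factP_blk690 : allRange factP 6 (690 * 2 ^ 6) = true := by decide +kernel
theorem factP_blk691 : allRange factP 6 (691 * 2 ^ 6) = true := by decide +kernel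
theorem factP_blk692 : allRange factP 6 (692 * 2 ^ 6) = true := by decide +kernel
theorem factP_blk693 : allRange factP 6 (693 * 2 ^ 6) = true := by decide +kernel
theorem factP_blk694 : allRange factP 6 (694 * 2 ^ 6) = true := by decide +kernel
theorem factP_blk695 : allRange factP 6 (695 * 2 ^ 6) = true := by decide +kernel
theorem factP_blk696 : allRange factP 6 (696 * 2 ^ 6) = true := by decide +kernel
theorem factP_blk697 : allRange factP 6 (697 * 2 ^ 6) = true := by decide +kernel
theorem factP_blk698 : allRange factP 6 (698 * 2 ^ 6) = true := by decide +kernel
theorem factP_blk699 : allRange factP 6 (699 * 2 ^ 6) = true := by decide +kernel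
theorem factP_blk700 : allRange factP 6 (700 * 2 ^ 6) = true := by decide +kernel
theorem factP_blk701 : allRange factP 6 (701 * 2 ^ 6) = true := by decide +kernel
theorem factP_blk702 : allRange factP 6 (702 * 2 ^ 6) = true := by decide +kernel
theorem factP_f7 : ∀ k, 672 ≤ k → k < 703 → allRange factP 6 (k * 2 ^ 6) = true := by
  intro k h1 h2
  interval_cases k
  · exact factP_blk672
  · exact factP_blk673
  · exact factP_blk674
  · exact factP_blk675
  · exact factP_blk676
  · exact factP_blk677
  · exact factP_blk678
  · exact factP_blk679
  · exact factP_blk680
  · exact factP_blk681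
  · exact factP_blk682
  · exact factP_blk683
  · exact factP_blk684
  · exact factP_blk685
  · exact factP_blk686
  · exact factP_blk687
  · exact factP_blk688
  · exact factP_blk689
  · exact factP_blk690
  · exact factP_blk691
  · exact factP_blk692
  · exact factP_blk693
  · exact factP_blk694
  · exact factP_blk695
  · exact factP_blk696
  · exact factP_blk697
  · exact factP_blk698
  · exact factP_blk699
  · exact factP_blk700
  · exact factP_blk701
  · exact factP_blk702

end

end Cfsg.Agent.Lib.Helper28.Y555.C28160
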