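import Cfsg.Agent.Lib.Helper28.Y555.C28160.ChkDefs

set_option autoImplicit false
set_option linter.unusedVariables false
set_option Elab.async false

namespace Cfsg.Agent.Lib.Helper28.Y555.C28160

open Cfsg.Agent.Lib.Helper28.Y555Sub.P9 (Gen)
open Cfsg.Agent.Lib.Helper28.TC

noncomputable section

theorem permP_blk672 : allRange (guard nn permP) 5 (672 * 2 ^ 5) = true := by decide +kernel
theorem permP_blk673 : allRange (guard nn permP) 5 (673 * 2 ^ 5) = true := by decide +kernel
theorem permP_blk674 : allRange (guard nn permP) 5 (674 * 2 ^ 5) = true := by decide +kernel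
theorem permP_blk675 : allRange (guard nn permP) 5 (675 * 2 ^ 5) = true := by decide +kernel
theorem permP_blk676 : allRange (guard nn permP) 5 (676 * 2 ^ 5) = true := by decide +kernel
theorem permP_blk677 : allRange (guard nn permP) 5 (677 * 2 ^ 5) = true := by decide +kernel
theorem permP_blk678 : allRange (guard nn permP) 5 (678 * 2 ^ 5) = true := by decide +kernel
theorem permP_blk679 : allRange (guard nn permP) 5 (679 * 2 ^ 5) = true := by decide +kernel
theorem permP_blk680 : allRange (guard nn permP) 5 (680 * 2 ^ 5) = true := by decide +kernel
theorem permP_blk681 : allRange (guard nn permP) 5 (681 * 2 ^ 5) = true := by decide +kernel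
theorem permP_blk682 : allRange (guard nn permP) 5 (682 * 2 ^ 5) = true := by decide +kernel
theorem permP_blk683 : allRange (guard nn permP) 5 (683 * 2 ^ 5) = true := by decide +kernel
theorem permP_blk684 : allRange (guard nn permP) 5 (684 * 2 ^ 5) = true := by decide +kernel
theorem permP_blk685 : allRange (guard nn permP) 5 (685 * 2 ^ 5) = true := by decide +kernel
theorem permP_blk686 : allRange (guard nn permP) 5 (686 * 2 ^ 5) = true := by decide +kernel
theorem permP_blk687 : allRange (guard nn permP) 5 (687 * 2 ^ 5) = true := by decide +kernel
theorem permP_blk688 : allRange (guard nn permP) 5 (688 * 2 ^ 5) = true := by decide +kernel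
theorem permP_blk689 : allRange (guard nn permP) 5 (689 * 2 ^ 5) = true := by decide +kernel
theorem permP_blk690 : allRange (guard nn permP) 5 (690 * 2 ^ 5) = true := by decide +kernel
theorem permP_blk691 : allRange (guard nn permP) 5 (691 * 2 ^ 5) = true := by decide +kernel
theorem permP_blk692 : allRange (guard nn permP) 5 (692 * 2 ^ 5) = true := by decide +kernel
theorem permP_blk693 : allRange (guard nn permP) 5 (693 * 2 ^ 5) = true := by decide +kernel
theorem permP_blk694 : allRange (guard nn permP) 5 (694 * 2 ^ 5) = true := by decide +kernel
theorem permP_blk695 : allRange (guard nn permP) 5 (695 * 2 ^ 5) = true := by decide +kernel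
theorem permP_blk696 : allRange (guard nn permP) 5 (696 * 2 ^ 5) = true := by decide +kernel
theorem permP_blk697 : allRange (guard nn permP) 5 (697 * 2 ^ 5) = true := by decide +kernel
theorem permP_blk698 : allRange (guard nn permP) 5 (698 * 2 ^ 5) = true := by decide +kernel
theorem permP_blk699 : allRange (guard nn permP) 5 (699 * 2 ^ 5) = true := by decide +kernel
theorem permP_blk700 : allRange (guard nn permP) 5 (700 * 2 ^ 5) = true := by decide +kernel
theorem permP_blk701 : allRange (guard nn permP) 5 (701 * 2 ^ 5) = true := by decide +kernel
theorem permP_blk702 : allRange (guard nn permP) 5 (702 * 2 ^ 5) = true := by decide +kernel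
theorem permP_blk703 : allRange (guard nn permP) 5 (703 * 2 ^ 5) = true := by decide +kernel
theorem permP_blk704 : allRange (guard nn permP) 5 (704 * 2 ^ 5) = true := by decide +kernel
theorem permP_blk705 : allRange (guard nn permP) 5 (705 * 2 ^ 5) = true := by decide +kernel
theorem permP_blk706 : allRange (guard nn permP) 5 (706 * 2 ^ 5) = true := by decide +kernel
theorem permP_blk707 : allRange (guard nn permP) 5 (707 * 2 ^ 5) = true := by decide +kernel
theorem permP_blk708 : allRange (guard nn permP) 5 (708 * 2 ^ 5) = true := by decide +kernel
theorem permP_blk709 : allRange (guard nn permP) 5 (709 * 2 ^ 5) = true := by decide +kernel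
theorem permP_blk710 : allRange (guard nn permP) 5 (710 * 2 ^ 5) = true := by decide +kernel
theorem permP_blk711 : allRange (guard nn permP) 5 (711 * 2 ^ 5) = true := by decide +kernel
theorem permP_blk712 : allRange (guard nn permP) 5 (712 * 2 ^ 5) = true := by decide +kernel
theorem permP_blk713 : allRange (guard nn permP) 5 (713 * 2 ^ 5) = true := by decide +kernel
theorem permP_blk714 : allRange (guard nn permP) 5 (714 * 2 ^ 5) = true := by decide +kernel
theorem permP_blk715 : allRange (guard nn permP) 5 (715 * 2 ^ 5) = true := by decide +kernel
theorem permP_blk716 : allRange (guard nn permP) 5 (716 * 2 ^ 5) = true := by decide +kernel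
theorem permP_blk717 : allRange (guard nn permP) 5 (717 * 2 ^ 5) = true := by decide +kernel
theorem permP_blk718 : allRange (guard nn permP) 5 (718 * 2 ^ 5) = true := by decide +kernel
theorem permP_blk719 : allRange (guard nn permP) 5 (719 * 2 ^ 5) = true := by decide +kernel
theorem permP_f14 : ∀ k, 672 ≤ k → k < 720 → allRange (guard nn permP) 5 (k * 2 ^ 5) = true := by
  intro k h1 h2
  interval_cases k
  · exact permP_blk672
  · exact permP_blk673
  · exact permP_blk674
  · exact permP_blk675
  · exact permP_blk676
  · exact permP_blk677
  · exact permP_blk678
  · exact permP_blk679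
  · exact permP_blk680
  · exact permP_blk681
  · exact permP_blk682
  · exact permP_blk683
  · exact permP_blk684
  · exact permP_blk685
  · exact permP_blk686
  · exact permP_blk687
  · exact permP_blk688
  · exact permP_blk689
  · exact permP_blk690
  · exact permP_blk691
  · exact permP_blk692
  · exact permP_blk693
  · exact permP_blk694
  · exact permP_blk695
  · exact permP_blk696
  · exact permP_blk697
  · exact permP_blk698
  · exact permP_blk699
  · exact permP_blk700
  · exact permP_blk701
  · exact permP_blk702
  · exact permP_blk703
  · exact permP_blk704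
  · exact permP_blk705
  · exact permP_blk706
  · exact permP_blk707
  · exact permP_blk708
  · exact permP_blk709
  · exact permP_blk710
  · exact permP_blk711
  · exact permP_blk712
  · exact permP_blk713
  · exact permP_blk714
  · exact permP_blk715
  · exact permP_blk716
  · exact permP_blk717
  · exact permP_blk718
  · exact permP_blk719

end

end Cfsg.Agent.Lib.Helper28.Y555.C28160
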