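import Cfsg.Agent.Lib.Helper28.Y555.C28160.ChkDefs

set_option autoImplicit false
set_option linter.unusedVariables false
set_option Elab.async false

namespace Cfsg.Agent.Lib.Helper28.Y555.C28160

open Cfsg.Agent.Lib.Helper28.Y555Sub.P9 (Gen)
open Cfsg.Agent.Lib.Helper28.TC

noncomputable section

theorem permP_blk720 : allRange (guard nn permP) 5 (720 * 2 ^ 5) = true := by decide +kernel
theorem permP_blk721 : allRange (guard nn permP) 5 (721 * 2 ^ 5) = true := by decide +kernel
theorem permP_blk722 : allRange (guard nn permP) 5 (722 * 2 ^ 5) = true := by decide +kernel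
theorem permP_blk723 : allRange (guard nn permP) 5 (723 * 2 ^ 5) = true := by decide +kernel
theorem permP_blk724 : allRange (guard nn permP) 5 (724 * 2 ^ 5) = true := by decide +kernel
theorem permP_blk725 : allRange (guard nn permP) 5 (725 * 2 ^ 5) = true := by decide +kernel
theorem permP_blk726 : allRange (guard nn permP) 5 (726 * 2 ^ 5) = true := by decide +kernel
theorem permP_blk727 : allRange (guard nn permP) 5 (727 * 2 ^ 5) = true := by decide +kernel
theorem permP_blk728 : allRange (guard nn permP) 5 (728 * 2 ^ 5) = true := by decide +kernel
theorem permP_blk729 : allRange (guard nn permP) 5 (729 * 2 ^ 5) = true := by decide +kernel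
theorem permP_blk730 : allRange (guard nn permP) 5 (730 * 2 ^ 5) = true := by decide +kernel
theorem permP_blk731 : allRange (guard nn permP) 5 (731 * 2 ^ 5) = true := by decide +kernel
theorem permP_blk732 : allRange (guard nn permP) 5 (732 * 2 ^ 5) = true := by decide +kernel
theorem permP_blk733 : allRange (guard nn permP) 5 (733 * 2 ^ 5) = true := by decide +kernel
theorem permP_blk734 : allRange (guard nn permP) 5 (734 * 2 ^ 5) = true := by decide +kernel
theorem permP_blk735 : allRange (guard nn permP) 5 (735 * 2 ^ 5) = true := by decide +kernel
theorem permP_blk736 : allRange (guard nn permP) 5 (736 * 2 ^ 5) = true := by decide +kernel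
theorem permP_blk737 : allRange (guard nn permP) 5 (737 * 2 ^ 5) = true := by decide +kernel
theorem permP_blk738 : allRange (guard nn permP) 5 (738 * 2 ^ 5) = true := by decide +kernel
theorem permP_blk739 : allRange (guard nn permP) 5 (739 * 2 ^ 5) = true := by decide +kernel
theorem permP_blk740 : allRange (guard nn permP) 5 (740 * 2 ^ 5) = true := by decide +kernel
theorem permP_blk741 : allRange (guard nn permP) 5 (741 * 2 ^ 5) = true := by decide +kernel
theorem permP_blk742 : allRange (guard nn permP) 5 (742 * 2 ^ 5) = true := by decide +kernel
theorem permP_blk743 : allRange (guard nn permP) 5 (743 * 2 ^ 5) = true := by decide +kernel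
theorem permP_blk744 : allRange (guard nn permP) 5 (744 * 2 ^ 5) = true := by decide +kernel
theorem permP_blk745 : allRange (guard nn permP) 5 (745 * 2 ^ 5) = true := by decide +kernel
theorem permP_blk746 : allRange (guard nn permP) 5 (746 * 2 ^ 5) = true := by decide +kernel
theorem permP_blk747 : allRange (guard nn permP) 5 (747 * 2 ^ 5) = true := by decide +kernel
theorem permP_blk748 : allRange (guard nn permP) 5 (748 * 2 ^ 5) = true := by decide +kernel
theorem permP_blk749 : allRange (guard nn permP) 5 (749 * 2 ^ 5) = true := by decide +kernel
theorem permP_blk750 : allRange (guard nn permP) 5 (750 * 2 ^ 5) = true := by decide +kernel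
theorem permP_blk751 : allRange (guard nn permP) 5 (751 * 2 ^ 5) = true := by decide +kernel
theorem permP_blk752 : allRange (guard nn permP) 5 (752 * 2 ^ 5) = true := by decide +kernel
theorem permP_blk753 : allRange (guard nn permP) 5 (753 * 2 ^ 5) = true := by decide +kernel
theorem permP_blk754 : allRange (guard nn permP) 5 (754 * 2 ^ 5) = true := by decide +kernel
theorem permP_blk755 : allRange (guard nn permP) 5 (755 * 2 ^ 5) = true := by decide +kernel
theorem permP_blk756 : allRange (guard nn permP) 5 (756 * 2 ^ 5) = true := by decide +kernel
theorem permP_blk757 : allRange (guard nn permP) 5 (757 * 2 ^ 5) = true := by decide +kernel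
theorem permP_blk758 : allRange (guard nn permP) 5 (758 * 2 ^ 5) = true := by decide +kernel
theorem permP_blk759 : allRange (guard nn permP) 5 (759 * 2 ^ 5) = true := by decide +kernel
theorem permP_blk760 : allRange (guard nn permP) 5 (760 * 2 ^ 5) = true := by decide +kernel
theorem permP_blk761 : allRange (guard nn permP) 5 (761 * 2 ^ 5) = true := by decide +kernel
theorem permP_blk762 : allRange (guard nn permP) 5 (762 * 2 ^ 5) = true := by decide +kernel
theorem permP_blk763 : allRange (guard nn permP) 5 (763 * 2 ^ 5) = true := by decide +kernel
theorem permP_blk764 : allRange (guard nn permP) 5 (764 * 2 ^ 5) = true := by decide +kernel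
theorem permP_blk765 : allRange (guard nn permP) 5 (765 * 2 ^ 5) = true := by decide +kernel
theorem permP_blk766 : allRange (guard nn permP) 5 (766 * 2 ^ 5) = true := by decide +kernel
theorem permP_blk767 : allRange (guard nn permP) 5 (767 * 2 ^ 5) = true := by decide +kernel
theorem permP_f15 : ∀ k, 720 ≤ k → k < 768 → allRange (guard nn permP) 5 (k * 2 ^ 5) = true := by
  intro k h1 h2
  interval_cases k
  · exact permP_blk720
  · exact permP_blk721
  · exact permP_blk722
  · exact permP_blk723
  · exact permP_blk724
  · exact permP_blk725
  · exact permP_blk726
  · exact permP_blk727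
  · exact permP_blk728
  · exact permP_blk729
  · exact permP_blk730
  · exact permP_blk731
  · exact permP_blk732
  · exact permP_blk733
  · exact permP_blk734
  · exact permP_blk735
  · exact permP_blk736
  · exact permP_blk737
  · exact permP_blk738
  · exact permP_blk739
  · exact permP_blk740
  · exact permP_blk741
  · exact permP_blk742
  · exact permP_blk743
  · exact permP_blk744
  · exact permP_blk745
  · exact permP_blk746
  · exact permP_blk747
  · exact permP_blk748
  · exact permP_blk749
  · exact permP_blk750
  · exact permP_blk751
  · exact permP_blk752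
  · exact permP_blk753
  · exact permP_blk754
  · exact permP_blk755
  · exact permP_blk756
  · exact permP_blk757
  · exact permP_blk758
  · exact permP_blk759
  · exact permP_blk760
  · exact permP_blk761
  · exact permP_blk762
  · exact permP_blk763
  · exact permP_blk764
  · exact permP_blk765
  · exact permP_blk766
  · exact permP_blk767

end

end Cfsg.Agent.Lib.Helper28.Y555.C28160
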