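import Cfsg.Agent.Lib.Helper28.Y555.C28160.ChkDefs

set_option autoImplicit false
set_option linter.unusedVariables false
set_option Elab.async false

namespace Cfsg.Agent.Lib.Helper28.Y555.C28160

open Cfsg.Agent.Lib.Helper28.Y555Sub.P9 (Gen)
open Cfsg.Agent.Lib.Helper28.TC

noncomputable section

theorem permP_blk480 : allRange (guard nn permP) 5 (480 * 2 ^ 5) = true := by decide +kernel
theorem permP_blk481 : allRange (guard nn permP) 5 (481 * 2 ^ 5) = true := by decide +kernel
theorem permP_blk482 : allRange (guard nn permP) 5 (482 * 2 ^ 5) = true := by decide +kernel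
theorem permP_blk483 : allRange (guard nn permP) 5 (483 * 2 ^ 5) = true := by decide +kernel
theorem permP_blk484 : allRange (guard nn permP) 5 (484 * 2 ^ 5) = true := by decide +kernel
theorem permP_blk485 : allRange (guard nn permP) 5 (485 * 2 ^ 5) = true := by decide +kernel
theorem permP_blk486 : allRange (guard nn permP) 5 (486 * 2 ^ 5) = true := by decide +kernel
theorem permP_blk487 : allRange (guard nn permP) 5 (487 * 2 ^ 5) = true := by decide +kernel
theorem permP_blk488 : allRange (guard nn permP) 5 (488 * 2 ^ 5) = true := by decide +kernel
theorem permP_blk489 : allRange (guard nn permP) 5 (489 * 2 ^ 5) = true := by decide +kernel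
theorem permP_blk490 : allRange (guard nn permP) 5 (490 * 2 ^ 5) = true := by decide +kernel
theorem permP_blk491 : allRange (guard nn permP) 5 (491 * 2 ^ 5) = true := by decide +kernel
theorem permP_blk492 : allRange (guard nn permP) 5 (492 * 2 ^ 5) = true := by decide +kernel
theorem permP_blk493 : allRange (guard nn permP) 5 (493 * 2 ^ 5) = true := by decide +kernel
theorem permP_blk494 : allRange (guard nn permP) 5 (494 * 2 ^ 5) = true := by decide +kernel
theorem permP_blk495 : allRange (guard nn permP) 5 (495 * 2 ^ 5) = true := by decide +kernel
theorem permP_blk496 : allRange (guard nn permP) 5 (496 * 2 ^ 5) = true := by decide +kernel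
theorem permP_blk497 : allRange (guard nn permP) 5 (497 * 2 ^ 5) = true := by decide +kernel
theorem permP_blk498 : allRange (guard nn permP) 5 (498 * 2 ^ 5) = true := by decide +kernel
theorem permP_blk499 : allRange (guard nn permP) 5 (499 * 2 ^ 5) = true := by decide +kernel
theorem permP_blk500 : allRange (guard nn permP) 5 (500 * 2 ^ 5) = true := by decide +kernel
theorem permP_blk501 : allRange (guard nn permP) 5 (501 * 2 ^ 5) = true := by decide +kernel
theorem permP_blk502 : allRange (guard nn permP) 5 (502 * 2 ^ 5) = true := by decide +kernel
theorem permP_blk503 : allRange (guard nn permP) 5 (503 * 2 ^ 5) = true := by decide +kernel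
theorem permP_blk504 : allRange (guard nn permP) 5 (504 * 2 ^ 5) = true := by decide +kernel
theorem permP_blk505 : allRange (guard nn permP) 5 (505 * 2 ^ 5) = true := by decide +kernel
theorem permP_blk506 : allRange (guard nn permP) 5 (506 * 2 ^ 5) = true := by decide +kernel
theorem permP_blk507 : allRange (guard nn permP) 5 (507 * 2 ^ 5) = true := by decide +kernel
theorem permP_blk508 : allRange (guard nn permP) 5 (508 * 2 ^ 5) = true := by decide +kernel
theorem permP_blk509 : allRange (guard nn permP) 5 (509 * 2 ^ 5) = true := by decide +kernel
theorem permP_blk510 : allRange (guard nn permP) 5 (510 * 2 ^ 5) = true := by decide +kernel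
theorem permP_blk511 : allRange (guard nn permP) 5 (511 * 2 ^ 5) = true := by decide +kernel
theorem permP_blk512 : allRange (guard nn permP) 5 (512 * 2 ^ 5) = true := by decide +kernel
theorem permP_blk513 : allRange (guard nn permP) 5 (513 * 2 ^ 5) = true := by decide +kernel
theorem permP_blk514 : allRange (guard nn permP) 5 (514 * 2 ^ 5) = true := by decide +kernel
theorem permP_blk515 : allRange (guard nn permP) 5 (515 * 2 ^ 5) = true := by decide +kernel
theorem permP_blk516 : allRange (guard nn permP) 5 (516 * 2 ^ 5) = true := by decide +kernel
theorem permP_blk517 : allRange (guard nn permP) 5 (517 * 2 ^ 5) = true := by decide +kernel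
theorem permP_blk518 : allRange (guard nn permP) 5 (518 * 2 ^ 5) = true := by decide +kernel
theorem permP_blk519 : allRange (guard nn permP) 5 (519 * 2 ^ 5) = true := by decide +kernel
theorem permP_blk520 : allRange (guard nn permP) 5 (520 * 2 ^ 5) = true := by decide +kernel
theorem permP_blk521 : allRange (guard nn permP) 5 (521 * 2 ^ 5) = true := by decide +kernel
theorem permP_blk522 : allRange (guard nn permP) 5 (522 * 2 ^ 5) = true := by decide +kernel
theorem permP_blk523 : allRange (guard nn permP) 5 (523 * 2 ^ 5) = true := by decide +kernel
theorem permP_blk524 : allRange (guard nn permP) 5 (524 * 2 ^ 5) = true := by decide +kernel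
theorem permP_blk525 : allRange (guard nn permP) 5 (525 * 2 ^ 5) = true := by decide +kernel
theorem permP_blk526 : allRange (guard nn permP) 5 (526 * 2 ^ 5) = true := by decide +kernel
theorem permP_blk527 : allRange (guard nn permP) 5 (527 * 2 ^ 5) = true := by decide +kernel
theorem permP_f10 : ∀ k, 480 ≤ k → k < 528 → allRange (guard nn permP) 5 (k * 2 ^ 5) = true := by
  intro k h1 h2
  interval_cases k
  · exact permP_blk480
  · exact permP_blk481
  · exact permP_blk482
  · exact permP_blk483
  · exact permP_blk484
  · exact permP_blk485
  · exact permP_blk486
  · exact permP_blk487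
  · exact permP_blk488
  · exact permP_blk489
  · exact permP_blk490
  · exact permP_blk491
  · exact permP_blk492
  · exact permP_blk493
  · exact permP_blk494
  · exact permP_blk495
  · exact permP_blk496
  · exact permP_blk497
  · exact permP_blk498
  · exact permP_blk499
  · exact permP_blk500
  · exact permP_blk501
  · exact permP_blk502
  · exact permP_blk503
  · exact permP_blk504
  · exact permP_blk505
  · exact permP_blk506
  · exact permP_blk507
  · exact permP_blk508
  · exact permP_blk509
  · exact permP_blk510
  · exact permP_blk511
  · exact permP_blk512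
  · exact permP_blk513
  · exact permP_blk514
  · exact permP_blk515
  · exact permP_blk516
  · exact permP_blk517
  · exact permP_blk518
  · exact permP_blk519
  · exact permP_blk520
  · exact permP_blk521
  · exact permP_blk522
  · exact permP_blk523
  · exact permP_blk524
  · exact permP_blk525
  · exact permP_blk526
  · exact permP_blk527

end

end Cfsg.Agent.Lib.Helper28.Y555.C28160
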